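-- The table HNTT, as a family of permutation networks.
import Cfsg.Agent.Lib.Compute.PNet
import Cfsg.Prelude.Def_Spor_HN
import Cfsg.Agent.Lib.Compute.TC.HNTT.Net0
import Cfsg.Agent.Lib.Compute.TC.HNTT.Net1
import Cfsg.Agent.Lib.Compute.TC.HNTT.Net2
import Cfsg.Agent.Lib.Compute.TC.HNTT.Net3
import Cfsg.Agent.Lib.Compute.TC.HNTT.Net4
import Cfsg.Agent.Lib.Compute.TC.HNTT.Net5
set_option autoImplicit false
set_option maxRecDepth 1000000

open Cfsg.Agent.Lib.Compute.ToddCoxeterCore Cfsg.Agent.Lib.Compute.ToddCoxeterPresented Cfsg.Agent.Lib.Compute.TCFast Cfsg.Agent.Lib.Compute.BitNet Cfsg.Agent.Lib.Compute.PNet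

namespace Cfsg.Agent.Lib.Compute.TC.HNTT

/-- the network of the letter 0 -/
noncomputable def net0 : List (MT × Nat) := [(m0s40, nat_lit 1048576), (m0s39, nat_lit 524288), (m0s38, nat_lit 262144), (m0s37, nat_lit 131072), (m0s36, nat_lit 65536), (m0s35, nat_lit 32768), (m0s34, nat_lit 16384), (m0s33, nat_lit 8192), (m0s32, nat_lit 4096), (m0s31, nat_lit 2048), (m0s30, nat_lit 1024), (m0s29, nat_lit 512), (m0s28, nat_lit 256), (m0s27, nat_lit 128), (m0s26, nat_lit 64), (m0s25, nat_lit 32), (m0s24, nat_lit 16), (m0s23, nat_lit 8), (m0s22, nat_lit 4), (m0s21, nat_lit 2), (m0s20, nat_lit 1), (m0s19, nat_lit 2), (m0s18, nat_lit 4), (m0s17, nat_lit 8), (m0s16, nat_lit 16), (m0s15, nat_lit 32), (m0s14, nat_lit 64), (m0s13, nat_lit 128), (m0s12, nat_lit 256), (m0s11, nat_lit 512), (m0s10, nat_lit 1024), (m0s9, nat_lit 2048), (m0s8, nat_lit 4096), (m0s7, nat_lit 8192), (m0s6, nat_lit 16384), (m0s5, nat_lit 32768), (m0s4, nat_lit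 65536), (m0s3, nat_lit 131072), (m0s2, nat_lit 262144), (m0s1, nat_lit 524288), (m0s0, nat_lit 1048576)]

/-- the network of the inverse of the letter 0 -/
noncomputable def net0r : List (MT × Nat) := [(m0s0, nat_lit 1048576), (m0s1, nat_lit 524288), (m0s2, nat_lit 262144), (m0s3, nat_lit 131072), (m0s4, nat_lit 65536), (m0s5, nat_lit 32768), (m0s6, nat_lit 16384), (m0s7, nat_lit 8192), (m0s8, nat_lit 4096), (m0s9, nat_lit 2048), (m0s10, nat_lit 1024), (m0s11, nat_lit 512), (m0s12, nat_lit 256), (m0s13, nat_lit 128), (m0s14, nat_lit 64), (m0s15, nat_lit 32), (m0s16, nat_lit 16), (m0s17, nat_lit 8), (m0s18, nat_lit 4), (m0s19, nat_lit 2), (m0s20, nat_lit 1), (m0s21, nat_lit 2), (m0s22, nat_lit 4), (m0s23, nat_lit 8), (m0s24, nat_lit 16), (m0s25, nat_lit 32), (m0s26, nat_lit 64), (m0s27, nat_lit 128), (m0s28, nat_lit 256), (m0s29, nat_lit 512), (m0s30, nat_lit 1024), (m0s31, nat_lit 2048), (m0s32, nat_lit 4096), (m0s33,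 nat_lit 8192), (m0s34, nat_lit 16384), (m0s35, nat_lit 32768), (m0s36, nat_lit 65536), (m0s37, nat_lit 131072), (m0s38, nat_lit 262144), (m0s39, nat_lit 524288), (m0s40, nat_lit 1048576)]

/-- the network of the letter 2 -/
noncomputable def net2 : List (MT × Nat) := [(m2s40, nat_lit 1048576), (m2s39, nat_lit 524288), (m2s38, nat_lit 262144), (m2s37, nat_lit 131072), (m2s36, nat_lit 65536), (m2s35, nat_lit 32768), (m2s34, nat_lit 16384), (m2s33, nat_lit 8192), (m2s32, nat_lit 4096), (m2s31, nat_lit 2048), (m2s30, nat_lit 1024), (m2s29, nat_lit 512), (m2s28, nat_lit 256), (m2s27, nat_lit 128), (m2s26, nat_lit 64), (m2s25, nat_lit 32), (m2s24, nat_lit 16), (m2s23, nat_lit 8), (m2s22, nat_lit 4), (m2s21, nat_lit 2), (m2s20, nat_lit 1), (m2s19, nat_lit 2), (m2s18, nat_lit 4), (m2s17, nat_lit 8), (m2s16, nat_lit 16), (m2s15, nat_lit 32), (m2s14, nat_lit 64), (m2s13, nat_lit 128), (m2s12, nat_lit 256), (m2s11, nat_lit 512),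 (m2s10, nat_lit 1024), (m2s9, nat_lit 2048), (m2s8, nat_lit 4096), (m2s7, nat_lit 8192), (m2s6, nat_lit 16384), (m2s5, nat_lit 32768), (m2s4, nat_lit 65536), (m2s3, nat_lit 131072), (m2s2, nat_lit 262144), (m2s1, nat_lit 524288), (m2s0, nat_lit 1048576)]

/-- the network of the inverse of the letter 2 -/
noncomputable def net2r : List (MT × Nat) := [(m2s0, nat_lit 1048576), (m2s1, nat_lit 524288), (m2s2, nat_lit 262144), (m2s3, nat_lit 131072), (m2s4, nat_lit 65536), (m2s5, nat_lit 32768), (m2s6, nat_lit 16384), (m2s7, nat_lit 8192), (m2s8, nat_lit 4096), (m2s9, nat_lit 2048), (m2s10, nat_lit 1024), (m2s11, nat_lit 512), (m2s12, nat_lit 256), (m2s13, nat_lit 128), (m2s14, nat_lit 64), (m2s15, nat_lit 32), (m2s16, nat_lit 16), (m2s17, nat_lit 8), (m2s18, nat_lit 4), (m2s19, nat_lit 2), (m2s20, nat_lit 1), (m2s21, nat_lit 2), (m2s22, nat_lit 4), (m2s23, nat_lit 8), (m2s24, nat_lit 16), (m2s25, nat_lit 32), (m2s26, nat_lit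 64), (m2s27, nat_lit 128), (m2s28, nat_lit 256), (m2s29, nat_lit 512), (m2s30, nat_lit 1024), (m2s31, nat_lit 2048), (m2s32, nat_lit 4096), (m2s33, nat_lit 8192), (m2s34, nat_lit 16384), (m2s35, nat_lit 32768), (m2s36, nat_lit 65536), (m2s37, nat_lit 131072), (m2s38, nat_lit 262144), (m2s39, nat_lit 524288), (m2s40, nat_lit 1048576)]

/-- the network of the letter 4 -/
noncomputable def net4 : List (MT × Nat) := [(m4s40, nat_lit 1048576), (m4s39, nat_lit 524288), (m4s38, nat_lit 262144), (m4s37, nat_lit 131072), (m4s36, nat_lit 65536), (m4s35, nat_lit 32768), (m4s34, nat_lit 16384), (m4s33, nat_lit 8192), (m4s32, nat_lit 4096), (m4s31, nat_lit 2048), (m4s30, nat_lit 1024), (m4s29, nat_lit 512), (m4s28, nat_lit 256), (m4s27, nat_lit 128), (m4s26, nat_lit 64), (m4s25, nat_lit 32), (m4s24, nat_lit 16), (m4s23, nat_lit 8), (m4s22, nat_lit 4), (m4s21, nat_lit 2), (m4s20, nat_lit 1), (m4s19, nat_lit 2), (m4s18, nat_lit 4),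 (m4s17, nat_lit 8), (m4s16, nat_lit 16), (m4s15, nat_lit 32), (m4s14, nat_lit 64), (m4s13, nat_lit 128), (m4s12, nat_lit 256), (m4s11, nat_lit 512), (m4s10, nat_lit 1024), (m4s9, nat_lit 2048), (m4s8, nat_lit 4096), (m4s7, nat_lit 8192), (m4s6, nat_lit 16384), (m4s5, nat_lit 32768), (m4s4, nat_lit 65536), (m4s3, nat_lit 131072), (m4s2, nat_lit 262144), (m4s1, nat_lit 524288), (m4s0, nat_lit 1048576)]

/-- the network of the inverse of the letter 4 -/
noncomputable def net4r : List (MT × Nat) := [(m4s0, nat_lit 1048576), (m4s1, nat_lit 524288), (m4s2, nat_lit 262144), (m4s3, nat_lit 131072), (m4s4, nat_lit 65536), (m4s5, nat_lit 32768), (m4s6, nat_lit 16384), (m4s7, nat_lit 8192), (m4s8, nat_lit 4096), (m4s9, nat_lit 2048), (m4s10, nat_lit 1024), (m4s11, nat_lit 512), (m4s12, nat_lit 256), (m4s13, nat_lit 128), (m4s14, nat_lit 64), (m4s15, nat_lit 32), (m4s16, nat_lit 16), (m4s17, nat_lit 8), (m4s18, nat_lit 4), (m4s19,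 nat_lit 2), (m4s20, nat_lit 1), (m4s21, nat_lit 2), (m4s22, nat_lit 4), (m4s23, nat_lit 8), (m4s24, nat_lit 16), (m4s25, nat_lit 32), (m4s26, nat_lit 64), (m4s27, nat_lit 128), (m4s28, nat_lit 256), (m4s29, nat_lit 512), (m4s30, nat_lit 1024), (m4s31, nat_lit 2048), (m4s32, nat_lit 4096), (m4s33, nat_lit 8192), (m4s34, nat_lit 16384), (m4s35, nat_lit 32768), (m4s36, nat_lit 65536), (m4s37, nat_lit 131072), (m4s38, nat_lit 262144), (m4s39, nat_lit 524288), (m4s40, nat_lit 1048576)]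

/-- the network of the letter 5 -/
noncomputable def net5 : List (MT × Nat) := [(m5s40, nat_lit 1048576), (m5s39, nat_lit 524288), (m5s38, nat_lit 262144), (m5s37, nat_lit 131072), (m5s36, nat_lit 65536), (m5s35, nat_lit 32768), (m5s34, nat_lit 16384), (m5s33, nat_lit 8192), (m5s32, nat_lit 4096), (m5s31, nat_lit 2048), (m5s30, nat_lit 1024), (m5s29, nat_lit 512), (m5s28, nat_lit 256), (m5s27, nat_lit 128), (m5s26, nat_lit 64), (m5s25, nat_lit 32), (m5s24, nat_lit 16), (m5s23, nat_lit 8), (m5s22, nat_lit 4), (m5s21, nat_lit 2), (m5s20, nat_lit 1), (m5s19, nat_lit 2), (m5s18, nat_lit 4), (m5s17, nat_lit 8), (m5s16, nat_lit 16), (m5s15, nat_lit 32), (m5s14, nat_lit 64), (m5s13, nat_lit 128), (m5s12, nat_lit 256), (m5s11, nat_lit 512), (m5s10, nat_lit 1024), (m5s9, nat_lit 2048), (m5s8, nat_lit 4096), (m5s7, nat_lit 8192), (m5s6, nat_lit 16384), (m5s5, nat_lit 32768), (m5s4, nat_lit 65536), (m5s3, nat_lit 131072), (m5s2,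 nat_lit 262144), (m5s1, nat_lit 524288), (m5s0, nat_lit 1048576)]

/-- the network of the inverse of the letter 5 -/
noncomputable def net5r : List (MT × Nat) := [(m5s0, nat_lit 1048576), (m5s1, nat_lit 524288), (m5s2, nat_lit 262144), (m5s3, nat_lit 131072), (m5s4, nat_lit 65536), (m5s5, nat_lit 32768), (m5s6, nat_lit 16384), (m5s7, nat_lit 8192), (m5s8, nat_lit 4096), (m5s9, nat_lit 2048), (m5s10, nat_lit 1024), (m5s11, nat_lit 512), (m5s12, nat_lit 256), (m5s13, nat_lit 128), (m5s14, nat_lit 64), (m5s15, nat_lit 32), (m5s16, nat_lit 16), (m5s17, nat_lit 8), (m5s18, nat_lit 4), (m5s19, nat_lit 2), (m5s20, nat_lit 1), (m5s21, nat_lit 2), (m5s22, nat_lit 4), (m5s23, nat_lit 8), (m5s24, nat_lit 16), (m5s25, nat_lit 32), (m5s26, nat_lit 64), (m5s27, nat_lit 128), (m5s28, nat_lit 256), (m5s29, nat_lit 512), (m5s30, nat_lit 1024), (m5s31, nat_lit 2048), (m5s32, nat_lit 4096), (m5s33, nat_lit 8192), (m5s34, nat_lit 16384),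 (m5s35, nat_lit 32768), (m5s36, nat_lit 65536), (m5s37, nat_lit 131072), (m5s38, nat_lit 262144), (m5s39, nat_lit 524288), (m5s40, nat_lit 1048576)]

/-- the networks of the letters -/
noncomputable def netL : List (List (MT × Nat)) := [net0, net0r, net2, net2r, net4, net5, net5r]

/-- the network of a letter, for reading points -/
noncomputable def netT (x : Nat) : List (MT × Nat) := List.getD netL x []

/-- the network of a letter -/
noncomputable def netOf (x : Nat) : List (Nat × Nat) := netV (netT x)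

/-- the relators -/
def relsL : List (List ℕ) := [[nat_lit 2, nat_lit 2, nat_lit 2, nat_lit 2, nat_lit 2, nat_lit 2],
  [nat_lit 3, nat_lit 0, nat_lit 0, nat_lit 2, nat_lit 0, nat_lit 0],
  [nat_lit 2, nat_lit 0, nat_lit 3, nat_lit 1, nat_lit 2, nat_lit 0, nat_lit 3, nat_lit 1, nat_lit 2, nat_lit 0, nat_lit 3, nat_lit 1],
  [nat_lit 2, nat_lit 2, nat_lit 2, nat_lit 0, nat_lit 2, nat_lit 2, nat_lit 1, nat_lit 2, nat_lit 2, nat_lit 2, nat_lit 0, nat_lit 2, nat_lit 2, nat_lit 1, nat_lit 2, nat_lit 2, nat_lit 2, nat_lit 0, nat_lit 2, nat_lit 2, nat_lit 1],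
  [nat_lit 2, nat_lit 0, nat_lit 2, nat_lit 0, nat_lit 2, nat_lit 0, nat_lit 2, nat_lit 0, nat_lit 2, nat_lit 0, nat_lit 2, nat_lit 0, nat_lit 2, nat_lit 0, nat_lit 2, nat_lit 0],
  [nat_lit 2, nat_lit 2, nat_lit 2, nat_lit 0, nat_lit 2, nat_lit 0, nat_lit 2, nat_lit 2, nat_lit 2, nat_lit 0, nat_lit 2, nat_lit 0, nat_lit 2, nat_lit 2, nat_lit 2, nat_lit 0, nat_lit 2, nat_lit 0, nat_lit 2, nat_lit 2, nat_lit 2, nat_lit 0, nat_lit 2, nat_lit 0],
  [nat_lit 4, nat_lit 4],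
  [nat_lit 0, nat_lit 4, nat_lit 0, nat_lit 4],
  [nat_lit 1, nat_lit 1, nat_lit 3, nat_lit 0, nat_lit 2, nat_lit 2, nat_lit 0, nat_lit 2, nat_lit 0, nat_lit 2, nat_lit 4, nat_lit 3, nat_lit 1, nat_lit 3, nat_lit 1, nat_lit 3, nat_lit 3, nat_lit 1, nat_lit 2, nat_lit 4],
  [nat_lit 0, nat_lit 2, nat_lit 0, nat_lit 2, nat_lit 0, nat_lit 2, nat_lit 2, nat_lit 2, nat_lit 4, nat_lit 3, nat_lit 3, nat_lit 3, nat_lit 1, nat_lit 3, nat_lit 1, nat_lit 3, nat_lit 0, nat_lit 2, nat_lit 0, nat_lit 2, nat_lit 0, nat_lit 2, nat_lit 2, nat_lit 2, nat_lit 4, nat_lit 3, nat_lit 3, nat_lit 3, nat_lit 1, nat_lit 3, nat_lit 1, nat_lit 3, nat_lit 0, nat_lit 2, nat_lit 0, nat_lit 2, nat_lit 0, nat_lit 2, nat_lit 2, nat_lit 2, nat_lit 4, nat_lit 3, nat_lit 3, nat_lit 3, nat_lit 1, nat_lit 3, nat_lit 1, nat_lit 3, nat_lit 4],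
  [nat_lit 5, nat_lit 5, nat_lit 5, nat_lit 5, nat_lit 5],
  [nat_lit 5, nat_lit 5, nat_lit 0, nat_lit 5, nat_lit 1],
  [nat_lit 2, nat_lit 5, nat_lit 3, nat_lit 6],
  [nat_lit 5, nat_lit 4, nat_lit 5, nat_lit 4, nat_lit 5, nat_lit 4]]
/-- the subgroup words -/
def hwL : List (List ℕ) := [[nat_lit 0],
  [nat_lit 2],
  [nat_lit 4]]

/-- the table -/
noncomputable def cfg : Cfg :=
  mkCfg (fun k => posT (netT (Nat.mod k (nat_lit 8))) (Nat.div k (nat_lit 8)))
    (nat_lit 12312000) (nat_lit 1539000) (nat_lit 1539000) (nat_lit 7) (nat_lit 8)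
    (fun x => List.getD [nat_lit 1, nat_lit 0, nat_lit 3, nat_lit 2, nat_lit 4, nat_lit 6, nat_lit 5, nat_lit 7] x x)
    (fun _ => nat_lit 0)
    (fun _ => nat_lit 0)
    (.leaf (nat_lit 0) (nat_lit 0) []) hwL

/-- the group side of the certificate -/
def D : Data Cfsg.Spor.HN.Gen where
  lets := [(.x,true),(.x,false),(.y,true),(.y,false),(.z,true),(.t,true),(.t,false)]
  rs := coxList Cfsg.Spor.HN.edges ++ Cfsg.Spor.HN.extra
  Hs := [Cfsg.Spor.HN.x, Cfsg.Spor.HN.y, Cfsg.Spor.HN.z]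
  rels := relsL
  hw := hwL

end Cfsg.Agent.Lib.Compute.TC.HNTT
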