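-- The checks of the table HNTT on bit planes.
import Cfsg.Agent.Lib.Compute.TC.HNTT.Data
set_option autoImplicit false
set_option Elab.async false
set_option maxRecDepth 1000000

open Cfsg.Agent.Lib.Compute.ToddCoxeterCore Cfsg.Agent.Lib.Compute.ToddCoxeterPresented Cfsg.Agent.Lib.Compute.TCFast Cfsg.Agent.Lib.Compute.BitNet Cfsg.Agent.Lib.Compute.PNet

namespace Cfsg.Agent.Lib.Compute.TC.HNTT

theorem validAll : netL.all (fun L => validN (netV L)) = true := by decide +kernel

theorem okAll : netL.all (fun L => L.all (fun l => l.1.ok)) = true := by decide +kernel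

theorem bdL0 : netA (netOf 0) (fullS cfg.N) = fullS cfg.N := by decide +kernel
theorem bdL1 : netA (netOf 1) (fullS cfg.N) = fullS cfg.N := by decide +kernel
theorem bdL2 : netA (netOf 2) (fullS cfg.N) = fullS cfg.N := by decide +kernel
theorem bdL3 : netA (netOf 3) (fullS cfg.N) = fullS cfg.N := by decide +kernel
theorem bdL4 : netA (netOf 4) (fullS cfg.N) = fullS cfg.N := by decide +kernel
theorem bdL5 : netA (netOf 5) (fullS cfg.N) = fullS cfg.N := by decide +kernel
theorem bdL6 : netA (netOf 6) (fullS cfg.N) = fullS cfg.N := by decide +kernel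

theorem invL0 : chkL netOf cfg.N 21 [cfg.inv 0, 0] [] (List.range 21) = true := by decide +kernel
theorem invL1 : chkL netOf cfg.N 21 [cfg.inv 1, 1] [] (List.range 21) = true := by decide +kernel
theorem invL2 : chkL netOf cfg.N 21 [cfg.inv 2, 2] [] (List.range 21) = true := by decide +kernel
theorem invL3 : chkL netOf cfg.N 21 [cfg.inv 3, 3] [] (List.range 21) = true := by decide +kernel
theorem invL4 : chkL netOf cfg.N 21 [cfg.inv 4, 4] [] (List.range 21) = true := by decide +kernel
theorem invL5 : chkL netOf cfg.N 21 [cfg.inv 5, 5] [] (List.range 21) = true := by decide +kernel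
theorem invL6 : chkL netOf cfg.N 21 [cfg.inv 6, 6] [] (List.range 21) = true := by decide +kernel

theorem reachAll : roundsN netOf [0, 1, 2, 3, 4, 5, 6] 10 1 = fullS cfg.N := by decide +kernel

theorem rp0p0 : chkP netOf cfg.N 21 (List.reverse (List.getD relsL 0 [])) [] 0 = true := by decide +kernel
theorem rp0p1 : chkP netOf cfg.N 21 (List.reverse (List.getD relsL 0 [])) [] 1 = true := by decide +kernel
theorem rp0p2 : chkP netOf cfg.N 21 (List.reverse (List.getD relsL 0 [])) [] 2 = true := by decide +kernel
theorem rp0p3 : chkP netOf cfg.N 21 (List.reverse (List.getD relsL 0 [])) [] 3 = true := by decide +kernel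
theorem rp0p4 : chkP netOf cfg.N 21 (List.reverse (List.getD relsL 0 [])) [] 4 = true := by decide +kernel
theorem rp0p5 : chkP netOf cfg.N 21 (List.reverse (List.getD relsL 0 [])) [] 5 = true := by decide +kernel
theorem rp0p6 : chkP netOf cfg.N 21 (List.reverse (List.getD relsL 0 [])) [] 6 = true := by decide +kernel
theorem rp0p7 : chkP netOf cfg.N 21 (List.reverse (List.getD relsL 0 [])) [] 7 = true := by decide +kernel
theorem rp0p8 : chkP netOf cfg.N 21 (List.reverse (List.getD relsL 0 [])) [] 8 = true := by decide +kernel
theorem rp0p9 : chkP netOf cfg.N 21 (List.reverse (List.getD relsL 0 [])) [] 9 = true := by decide +kernel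
theorem rp0p10 : chkP netOf cfg.N 21 (List.reverse (List.getD relsL 0 [])) [] 10 = true := by decide +kernel
theorem rp0p11 : chkP netOf cfg.N 21 (List.reverse (List.getD relsL 0 [])) [] 11 = true := by decide +kernel
theorem rp0p12 : chkP netOf cfg.N 21 (List.reverse (List.getD relsL 0 [])) [] 12 = true := by decide +kernel
theorem rp0p13 : chkP netOf cfg.N 21 (List.reverse (List.getD relsL 0 [])) [] 13 = true := by decide +kernel
theorem rp0p14 : chkP netOf cfg.N 21 (List.reverse (List.getD relsL 0 [])) [] 14 = true := by decide +kernel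
theorem rp0p15 : chkP netOf cfg.N 21 (List.reverse (List.getD relsL 0 [])) [] 15 = true := by decide +kernel
theorem rp0p16 : chkP netOf cfg.N 21 (List.reverse (List.getD relsL 0 [])) [] 16 = true := by decide +kernel
theorem rp0p17 : chkP netOf cfg.N 21 (List.reverse (List.getD relsL 0 [])) [] 17 = true := by decide +kernel
theorem rp0p18 : chkP netOf cfg.N 21 (List.reverse (List.getD relsL 0 [])) [] 18 = true := by decide +kernel
theorem rp0p19 : chkP netOf cfg.N 21 (List.reverse (List.getD relsL 0 [])) [] 19 = true := by decide +kernel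
theorem rp0p20 : chkP netOf cfg.N 21 (List.reverse (List.getD relsL 0 [])) [] 20 = true := by decide +kernel

theorem rp1p0 : chkP netOf cfg.N 21 (List.reverse (List.getD relsL 1 [])) [] 0 = true := by decide +kernel
theorem rp1p1 : chkP netOf cfg.N 21 (List.reverse (List.getD relsL 1 [])) [] 1 = true := by decide +kernel
theorem rp1p2 : chkP netOf cfg.N 21 (List.reverse (List.getD relsL 1 [])) [] 2 = true := by decide +kernel
theorem rp1p3 : chkP netOf cfg.N 21 (List.reverse (List.getD relsL 1 [])) [] 3 = true := by decide +kernel
theorem rp1p4 : chkP netOf cfg.N 21 (List.reverse (List.getD relsL 1 [])) [] 4 = true := by decide +kernel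
theorem rp1p5 : chkP netOf cfg.N 21 (List.reverse (List.getD relsL 1 [])) [] 5 = true := by decide +kernel
theorem rp1p6 : chkP netOf cfg.N 21 (List.reverse (List.getD relsL 1 [])) [] 6 = true := by decide +kernel
theorem rp1p7 : chkP netOf cfg.N 21 (List.reverse (List.getD relsL 1 [])) [] 7 = true := by decide +kernel
theorem rp1p8 : chkP netOf cfg.N 21 (List.reverse (List.getD relsL 1 [])) [] 8 = true := by decide +kernel
theorem rp1p9 : chkP netOf cfg.N 21 (List.reverse (List.getD relsL 1 [])) [] 9 = true := by decide +kernel
theorem rp1p10 : chkP netOf cfg.N 21 (List.reverse (List.getD relsL 1 [])) [] 10 = true := by decide +kernel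
theorem rp1p11 : chkP netOf cfg.N 21 (List.reverse (List.getD relsL 1 [])) [] 11 = true := by decide +kernel
theorem rp1p12 : chkP netOf cfg.N 21 (List.reverse (List.getD relsL 1 [])) [] 12 = true := by decide +kernel
theorem rp1p13 : chkP netOf cfg.N 21 (List.reverse (List.getD relsL 1 [])) [] 13 = true := by decide +kernel
theorem rp1p14 : chkP netOf cfg.N 21 (List.reverse (List.getD relsL 1 [])) [] 14 = true := by decide +kernel
theorem rp1p15 : chkP netOf cfg.N 21 (List.reverse (List.getD relsL 1 [])) [] 15 = true := by decide +kernel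
theorem rp1p16 : chkP netOf cfg.N 21 (List.reverse (List.getD relsL 1 [])) [] 16 = true := by decide +kernel
theorem rp1p17 : chkP netOf cfg.N 21 (List.reverse (List.getD relsL 1 [])) [] 17 = true := by decide +kernel
theorem rp1p18 : chkP netOf cfg.N 21 (List.reverse (List.getD relsL 1 [])) [] 18 = true := by decide +kernel
theorem rp1p19 : chkP netOf cfg.N 21 (List.reverse (List.getD relsL 1 [])) [] 19 = true := by decide +kernel
theorem rp1p20 : chkP netOf cfg.N 21 (List.reverse (List.getD relsL 1 [])) [] 20 = true := by decide +kernel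

theorem rp2p0 : chkP netOf cfg.N 21 (List.reverse (List.getD relsL 2 [])) [] 0 = true := by decide +kernel
theorem rp2p1 : chkP netOf cfg.N 21 (List.reverse (List.getD relsL 2 [])) [] 1 = true := by decide +kernel
theorem rp2p2 : chkP netOf cfg.N 21 (List.reverse (List.getD relsL 2 [])) [] 2 = true := by decide +kernel
theorem rp2p3 : chkP netOf cfg.N 21 (List.reverse (List.getD relsL 2 [])) [] 3 = true := by decide +kernel
theorem rp2p4 : chkP netOf cfg.N 21 (List.reverse (List.getD relsL 2 [])) [] 4 = true := by decide +kernel
theorem rp2p5 : chkP netOf cfg.N 21 (List.reverse (List.getD relsL 2 [])) [] 5 = true := by decide +kernel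
theorem rp2p6 : chkP netOf cfg.N 21 (List.reverse (List.getD relsL 2 [])) [] 6 = true := by decide +kernel
theorem rp2p7 : chkP netOf cfg.N 21 (List.reverse (List.getD relsL 2 [])) [] 7 = true := by decide +kernel
theorem rp2p8 : chkP netOf cfg.N 21 (List.reverse (List.getD relsL 2 [])) [] 8 = true := by decide +kernel
theorem rp2p9 : chkP netOf cfg.N 21 (List.reverse (List.getD relsL 2 [])) [] 9 = true := by decide +kernel
theorem rp2p10 : chkP netOf cfg.N 21 (List.reverse (List.getD relsL 2 [])) [] 10 = true := by decide +kernel
theorem rp2p11 : chkP netOf cfg.N 21 (List.reverse (List.getD relsL 2 [])) [] 11 = true := by decide +kernel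
theorem rp2p12 : chkP netOf cfg.N 21 (List.reverse (List.getD relsL 2 [])) [] 12 = true := by decide +kernel
theorem rp2p13 : chkP netOf cfg.N 21 (List.reverse (List.getD relsL 2 [])) [] 13 = true := by decide +kernel
theorem rp2p14 : chkP netOf cfg.N 21 (List.reverse (List.getD relsL 2 [])) [] 14 = true := by decide +kernel
theorem rp2p15 : chkP netOf cfg.N 21 (List.reverse (List.getD relsL 2 [])) [] 15 = true := by decide +kernel
theorem rp2p16 : chkP netOf cfg.N 21 (List.reverse (List.getD relsL 2 [])) [] 16 = true := by decide +kernel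
theorem rp2p17 : chkP netOf cfg.N 21 (List.reverse (List.getD relsL 2 [])) [] 17 = true := by decide +kernel
theorem rp2p18 : chkP netOf cfg.N 21 (List.reverse (List.getD relsL 2 [])) [] 18 = true := by decide +kernel
theorem rp2p19 : chkP netOf cfg.N 21 (List.reverse (List.getD relsL 2 [])) [] 19 = true := by decide +kernel
theorem rp2p20 : chkP netOf cfg.N 21 (List.reverse (List.getD relsL 2 [])) [] 20 = true := by decide +kernel

theorem rp3p0 : chkP netOf cfg.N 21 (List.reverse (List.getD relsL 3 [])) [] 0 = true := by decide +kernel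
theorem rp3p1 : chkP netOf cfg.N 21 (List.reverse (List.getD relsL 3 [])) [] 1 = true := by decide +kernel
theorem rp3p2 : chkP netOf cfg.N 21 (List.reverse (List.getD relsL 3 [])) [] 2 = true := by decide +kernel
theorem rp3p3 : chkP netOf cfg.N 21 (List.reverse (List.getD relsL 3 [])) [] 3 = true := by decide +kernel
theorem rp3p4 : chkP netOf cfg.N 21 (List.reverse (List.getD relsL 3 [])) [] 4 = true := by decide +kernel
theorem rp3p5 : chkP netOf cfg.N 21 (List.reverse (List.getD relsL 3 [])) [] 5 = true := by decide +kernel
theorem rp3p6 : chkP netOf cfg.N 21 (List.reverse (List.getD relsL 3 [])) [] 6 = true := by decide +kernel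
theorem rp3p7 : chkP netOf cfg.N 21 (List.reverse (List.getD relsL 3 [])) [] 7 = true := by decide +kernel
theorem rp3p8 : chkP netOf cfg.N 21 (List.reverse (List.getD relsL 3 [])) [] 8 = true := by decide +kernel
theorem rp3p9 : chkP netOf cfg.N 21 (List.reverse (List.getD relsL 3 [])) [] 9 = true := by decide +kernel
theorem rp3p10 : chkP netOf cfg.N 21 (List.reverse (List.getD relsL 3 [])) [] 10 = true := by decide +kernel
theorem rp3p11 : chkP netOf cfg.N 21 (List.reverse (List.getD relsL 3 [])) [] 11 = true := by decide +kernel
theorem rp3p12 : chkP netOf cfg.N 21 (List.reverse (List.getD relsL 3 [])) [] 12 = true := by decide +kernel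
theorem rp3p13 : chkP netOf cfg.N 21 (List.reverse (List.getD relsL 3 [])) [] 13 = true := by decide +kernel
theorem rp3p14 : chkP netOf cfg.N 21 (List.reverse (List.getD relsL 3 [])) [] 14 = true := by decide +kernel
theorem rp3p15 : chkP netOf cfg.N 21 (List.reverse (List.getD relsL 3 [])) [] 15 = true := by decide +kernel
theorem rp3p16 : chkP netOf cfg.N 21 (List.reverse (List.getD relsL 3 [])) [] 16 = true := by decide +kernel
theorem rp3p17 : chkP netOf cfg.N 21 (List.reverse (List.getD relsL 3 [])) [] 17 = true := by decide +kernel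
theorem rp3p18 : chkP netOf cfg.N 21 (List.reverse (List.getD relsL 3 [])) [] 18 = true := by decide +kernel
theorem rp3p19 : chkP netOf cfg.N 21 (List.reverse (List.getD relsL 3 [])) [] 19 = true := by decide +kernel
theorem rp3p20 : chkP netOf cfg.N 21 (List.reverse (List.getD relsL 3 [])) [] 20 = true := by decide +kernel

theorem rp4p0 : chkP netOf cfg.N 21 (List.reverse (List.getD relsL 4 [])) [] 0 = true := by decide +kernel
theorem rp4p1 : chkP netOf cfg.N 21 (List.reverse (List.getD relsL 4 [])) [] 1 = true := by decide +kernel
theorem rp4p2 : chkP netOf cfg.N 21 (List.reverse (List.getD relsL 4 [])) [] 2 = true := by decide +kernel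
theorem rp4p3 : chkP netOf cfg.N 21 (List.reverse (List.getD relsL 4 [])) [] 3 = true := by decide +kernel
theorem rp4p4 : chkP netOf cfg.N 21 (List.reverse (List.getD relsL 4 [])) [] 4 = true := by decide +kernel
theorem rp4p5 : chkP netOf cfg.N 21 (List.reverse (List.getD relsL 4 [])) [] 5 = true := by decide +kernel
theorem rp4p6 : chkP netOf cfg.N 21 (List.reverse (List.getD relsL 4 [])) [] 6 = true := by decide +kernel
theorem rp4p7 : chkP netOf cfg.N 21 (List.reverse (List.getD relsL 4 [])) [] 7 = true := by decide +kernel
theorem rp4p8 : chkP netOf cfg.N 21 (List.reverse (List.getD relsL 4 [])) [] 8 = true := by decide +kernel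
theorem rp4p9 : chkP netOf cfg.N 21 (List.reverse (List.getD relsL 4 [])) [] 9 = true := by decide +kernel
theorem rp4p10 : chkP netOf cfg.N 21 (List.reverse (List.getD relsL 4 [])) [] 10 = true := by decide +kernel
theorem rp4p11 : chkP netOf cfg.N 21 (List.reverse (List.getD relsL 4 [])) [] 11 = true := by decide +kernel
theorem rp4p12 : chkP netOf cfg.N 21 (List.reverse (List.getD relsL 4 [])) [] 12 = true := by decide +kernel
theorem rp4p13 : chkP netOf cfg.N 21 (List.reverse (List.getD relsL 4 [])) [] 13 = true := by decide +kernel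
theorem rp4p14 : chkP netOf cfg.N 21 (List.reverse (List.getD relsL 4 [])) [] 14 = true := by decide +kernel
theorem rp4p15 : chkP netOf cfg.N 21 (List.reverse (List.getD relsL 4 [])) [] 15 = true := by decide +kernel
theorem rp4p16 : chkP netOf cfg.N 21 (List.reverse (List.getD relsL 4 [])) [] 16 = true := by decide +kernel
theorem rp4p17 : chkP netOf cfg.N 21 (List.reverse (List.getD relsL 4 [])) [] 17 = true := by decide +kernel
theorem rp4p18 : chkP netOf cfg.N 21 (List.reverse (List.getD relsL 4 [])) [] 18 = true := by decide +kernel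
theorem rp4p19 : chkP netOf cfg.N 21 (List.reverse (List.getD relsL 4 [])) [] 19 = true := by decide +kernel
theorem rp4p20 : chkP netOf cfg.N 21 (List.reverse (List.getD relsL 4 [])) [] 20 = true := by decide +kernel

theorem rp5p0 : chkP netOf cfg.N 21 (List.reverse (List.getD relsL 5 [])) [] 0 = true := by decide +kernel
theorem rp5p1 : chkP netOf cfg.N 21 (List.reverse (List.getD relsL 5 [])) [] 1 = true := by decide +kernel
theorem rp5p2 : chkP netOf cfg.N 21 (List.reverse (List.getD relsL 5 [])) [] 2 = true := by decide +kernel
theorem rp5p3 : chkP netOf cfg.N 21 (List.reverse (List.getD relsL 5 [])) [] 3 = true := by decide +kernel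
theorem rp5p4 : chkP netOf cfg.N 21 (List.reverse (List.getD relsL 5 [])) [] 4 = true := by decide +kernel
theorem rp5p5 : chkP netOf cfg.N 21 (List.reverse (List.getD relsL 5 [])) [] 5 = true := by decide +kernel
theorem rp5p6 : chkP netOf cfg.N 21 (List.reverse (List.getD relsL 5 [])) [] 6 = true := by decide +kernel
theorem rp5p7 : chkP netOf cfg.N 21 (List.reverse (List.getD relsL 5 [])) [] 7 = true := by decide +kernel
theorem rp5p8 : chkP netOf cfg.N 21 (List.reverse (List.getD relsL 5 [])) [] 8 = true := by decide +kernel
theorem rp5p9 : chkP netOf cfg.N 21 (List.reverse (List.getD relsL 5 [])) [] 9 = true := by decide +kernel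
theorem rp5p10 : chkP netOf cfg.N 21 (List.reverse (List.getD relsL 5 [])) [] 10 = true := by decide +kernel
theorem rp5p11 : chkP netOf cfg.N 21 (List.reverse (List.getD relsL 5 [])) [] 11 = true := by decide +kernel
theorem rp5p12 : chkP netOf cfg.N 21 (List.reverse (List.getD relsL 5 [])) [] 12 = true := by decide +kernel
theorem rp5p13 : chkP netOf cfg.N 21 (List.reverse (List.getD relsL 5 [])) [] 13 = true := by decide +kernel
theorem rp5p14 : chkP netOf cfg.N 21 (List.reverse (List.getD relsL 5 [])) [] 14 = true := by decide +kernel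
theorem rp5p15 : chkP netOf cfg.N 21 (List.reverse (List.getD relsL 5 [])) [] 15 = true := by decide +kernel
theorem rp5p16 : chkP netOf cfg.N 21 (List.reverse (List.getD relsL 5 [])) [] 16 = true := by decide +kernel
theorem rp5p17 : chkP netOf cfg.N 21 (List.reverse (List.getD relsL 5 [])) [] 17 = true := by decide +kernel
theorem rp5p18 : chkP netOf cfg.N 21 (List.reverse (List.getD relsL 5 [])) [] 18 = true := by decide +kernel
theorem rp5p19 : chkP netOf cfg.N 21 (List.reverse (List.getD relsL 5 [])) [] 19 = true := by decide +kernel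
theorem rp5p20 : chkP netOf cfg.N 21 (List.reverse (List.getD relsL 5 [])) [] 20 = true := by decide +kernel

theorem rp6p0 : chkP netOf cfg.N 21 (List.reverse (List.getD relsL 6 [])) [] 0 = true := by decide +kernel
theorem rp6p1 : chkP netOf cfg.N 21 (List.reverse (List.getD relsL 6 [])) [] 1 = true := by decide +kernel
theorem rp6p2 : chkP netOf cfg.N 21 (List.reverse (List.getD relsL 6 [])) [] 2 = true := by decide +kernel
theorem rp6p3 : chkP netOf cfg.N 21 (List.reverse (List.getD relsL 6 [])) [] 3 = true := by decide +kernel
theorem rp6p4 : chkP netOf cfg.N 21 (List.reverse (List.getD relsL 6 [])) [] 4 = true := by decide +kernel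
theorem rp6p5 : chkP netOf cfg.N 21 (List.reverse (List.getD relsL 6 [])) [] 5 = true := by decide +kernel
theorem rp6p6 : chkP netOf cfg.N 21 (List.reverse (List.getD relsL 6 [])) [] 6 = true := by decide +kernel
theorem rp6p7 : chkP netOf cfg.N 21 (List.reverse (List.getD relsL 6 [])) [] 7 = true := by decide +kernel
theorem rp6p8 : chkP netOf cfg.N 21 (List.reverse (List.getD relsL 6 [])) [] 8 = true := by decide +kernel
theorem rp6p9 : chkP netOf cfg.N 21 (List.reverse (List.getD relsL 6 [])) [] 9 = true := by decide +kernel
theorem rp6p10 : chkP netOf cfg.N 21 (List.reverse (List.getD relsL 6 [])) [] 10 = true := by decide +kernel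
theorem rp6p11 : chkP netOf cfg.N 21 (List.reverse (List.getD relsL 6 [])) [] 11 = true := by decide +kernel
theorem rp6p12 : chkP netOf cfg.N 21 (List.reverse (List.getD relsL 6 [])) [] 12 = true := by decide +kernel
theorem rp6p13 : chkP netOf cfg.N 21 (List.reverse (List.getD relsL 6 [])) [] 13 = true := by decide +kernel
theorem rp6p14 : chkP netOf cfg.N 21 (List.reverse (List.getD relsL 6 [])) [] 14 = true := by decide +kernel
theorem rp6p15 : chkP netOf cfg.N 21 (List.reverse (List.getD relsL 6 [])) [] 15 = true := by decide +kernel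
theorem rp6p16 : chkP netOf cfg.N 21 (List.reverse (List.getD relsL 6 [])) [] 16 = true := by decide +kernel
theorem rp6p17 : chkP netOf cfg.N 21 (List.reverse (List.getD relsL 6 [])) [] 17 = true := by decide +kernel
theorem rp6p18 : chkP netOf cfg.N 21 (List.reverse (List.getD relsL 6 [])) [] 18 = true := by decide +kernel
theorem rp6p19 : chkP netOf cfg.N 21 (List.reverse (List.getD relsL 6 [])) [] 19 = true := by decide +kernel
theorem rp6p20 : chkP netOf cfg.N 21 (List.reverse (List.getD relsL 6 [])) [] 20 = true := by decide +kernel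

theorem rp7p0 : chkP netOf cfg.N 21 (List.reverse (List.getD relsL 7 [])) [] 0 = true := by decide +kernel
theorem rp7p1 : chkP netOf cfg.N 21 (List.reverse (List.getD relsL 7 [])) [] 1 = true := by decide +kernel
theorem rp7p2 : chkP netOf cfg.N 21 (List.reverse (List.getD relsL 7 [])) [] 2 = true := by decide +kernel
theorem rp7p3 : chkP netOf cfg.N 21 (List.reverse (List.getD relsL 7 [])) [] 3 = true := by decide +kernel
theorem rp7p4 : chkP netOf cfg.N 21 (List.reverse (List.getD relsL 7 [])) [] 4 = true := by decide +kernel
theorem rp7p5 : chkP netOf cfg.N 21 (List.reverse (List.getD relsL 7 [])) [] 5 = true := by decide +kernel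
theorem rp7p6 : chkP netOf cfg.N 21 (List.reverse (List.getD relsL 7 [])) [] 6 = true := by decide +kernel
theorem rp7p7 : chkP netOf cfg.N 21 (List.reverse (List.getD relsL 7 [])) [] 7 = true := by decide +kernel
theorem rp7p8 : chkP netOf cfg.N 21 (List.reverse (List.getD relsL 7 [])) [] 8 = true := by decide +kernel
theorem rp7p9 : chkP netOf cfg.N 21 (List.reverse (List.getD relsL 7 [])) [] 9 = true := by decide +kernel
theorem rp7p10 : chkP netOf cfg.N 21 (List.reverse (List.getD relsL 7 [])) [] 10 = true := by decide +kernel
theorem rp7p11 : chkP netOf cfg.N 21 (List.reverse (List.getD relsL 7 [])) [] 11 = true := by decide +kernel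
theorem rp7p12 : chkP netOf cfg.N 21 (List.reverse (List.getD relsL 7 [])) [] 12 = true := by decide +kernel
theorem rp7p13 : chkP netOf cfg.N 21 (List.reverse (List.getD relsL 7 [])) [] 13 = true := by decide +kernel
theorem rp7p14 : chkP netOf cfg.N 21 (List.reverse (List.getD relsL 7 [])) [] 14 = true := by decide +kernel
theorem rp7p15 : chkP netOf cfg.N 21 (List.reverse (List.getD relsL 7 [])) [] 15 = true := by decide +kernel
theorem rp7p16 : chkP netOf cfg.N 21 (List.reverse (List.getD relsL 7 [])) [] 16 = true := by decide +kernel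
theorem rp7p17 : chkP netOf cfg.N 21 (List.reverse (List.getD relsL 7 [])) [] 17 = true := by decide +kernel
theorem rp7p18 : chkP netOf cfg.N 21 (List.reverse (List.getD relsL 7 [])) [] 18 = true := by decide +kernel
theorem rp7p19 : chkP netOf cfg.N 21 (List.reverse (List.getD relsL 7 [])) [] 19 = true := by decide +kernel
theorem rp7p20 : chkP netOf cfg.N 21 (List.reverse (List.getD relsL 7 [])) [] 20 = true := by decide +kernel

theorem rp8p0 : chkP netOf cfg.N 21 (List.reverse (List.getD relsL 8 [])) [] 0 = true := by decide +kernel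
theorem rp8p1 : chkP netOf cfg.N 21 (List.reverse (List.getD relsL 8 [])) [] 1 = true := by decide +kernel
theorem rp8p2 : chkP netOf cfg.N 21 (List.reverse (List.getD relsL 8 [])) [] 2 = true := by decide +kernel
theorem rp8p3 : chkP netOf cfg.N 21 (List.reverse (List.getD relsL 8 [])) [] 3 = true := by decide +kernel
theorem rp8p4 : chkP netOf cfg.N 21 (List.reverse (List.getD relsL 8 [])) [] 4 = true := by decide +kernel
theorem rp8p5 : chkP netOf cfg.N 21 (List.reverse (List.getD relsL 8 [])) [] 5 = true := by decide +kernel
theorem rp8p6 : chkP netOf cfg.N 21 (List.reverse (List.getD relsL 8 [])) [] 6 = true := by decide +kernel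
theorem rp8p7 : chkP netOf cfg.N 21 (List.reverse (List.getD relsL 8 [])) [] 7 = true := by decide +kernel
theorem rp8p8 : chkP netOf cfg.N 21 (List.reverse (List.getD relsL 8 [])) [] 8 = true := by decide +kernel
theorem rp8p9 : chkP netOf cfg.N 21 (List.reverse (List.getD relsL 8 [])) [] 9 = true := by decide +kernel
theorem rp8p10 : chkP netOf cfg.N 21 (List.reverse (List.getD relsL 8 [])) [] 10 = true := by decide +kernel
theorem rp8p11 : chkP netOf cfg.N 21 (List.reverse (List.getD relsL 8 [])) [] 11 = true := by decide +kernel
theorem rp8p12 : chkP netOf cfg.N 21 (List.reverse (List.getD relsL 8 [])) [] 12 = true := by decide +kernel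
theorem rp8p13 : chkP netOf cfg.N 21 (List.reverse (List.getD relsL 8 [])) [] 13 = true := by decide +kernel
theorem rp8p14 : chkP netOf cfg.N 21 (List.reverse (List.getD relsL 8 [])) [] 14 = true := by decide +kernel
theorem rp8p15 : chkP netOf cfg.N 21 (List.reverse (List.getD relsL 8 [])) [] 15 = true := by decide +kernel
theorem rp8p16 : chkP netOf cfg.N 21 (List.reverse (List.getD relsL 8 [])) [] 16 = true := by decide +kernel
theorem rp8p17 : chkP netOf cfg.N 21 (List.reverse (List.getD relsL 8 [])) [] 17 = true := by decide +kernel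
theorem rp8p18 : chkP netOf cfg.N 21 (List.reverse (List.getD relsL 8 [])) [] 18 = true := by decide +kernel
theorem rp8p19 : chkP netOf cfg.N 21 (List.reverse (List.getD relsL 8 [])) [] 19 = true := by decide +kernel
theorem rp8p20 : chkP netOf cfg.N 21 (List.reverse (List.getD relsL 8 [])) [] 20 = true := by decide +kernel

theorem rp9p0 : chkP netOf cfg.N 21 (List.reverse (List.getD relsL 9 [])) [] 0 = true := by decide +kernel
theorem rp9p1 : chkP netOf cfg.N 21 (List.reverse (List.getD relsL 9 [])) [] 1 = true := by decide +kernel
theorem rp9p2 : chkP netOf cfg.N 21 (List.reverse (List.getD relsL 9 [])) [] 2 = true := by decide +kernel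
theorem rp9p3 : chkP netOf cfg.N 21 (List.reverse (List.getD relsL 9 [])) [] 3 = true := by decide +kernel
theorem rp9p4 : chkP netOf cfg.N 21 (List.reverse (List.getD relsL 9 [])) [] 4 = true := by decide +kernel
theorem rp9p5 : chkP netOf cfg.N 21 (List.reverse (List.getD relsL 9 [])) [] 5 = true := by decide +kernel
theorem rp9p6 : chkP netOf cfg.N 21 (List.reverse (List.getD relsL 9 [])) [] 6 = true := by decide +kernel
theorem rp9p7 : chkP netOf cfg.N 21 (List.reverse (List.getD relsL 9 [])) [] 7 = true := by decide +kernel
theorem rp9p8 : chkP netOf cfg.N 21 (List.reverse (List.getD relsL 9 [])) [] 8 = true := by decide +kernel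
theorem rp9p9 : chkP netOf cfg.N 21 (List.reverse (List.getD relsL 9 [])) [] 9 = true := by decide +kernel
theorem rp9p10 : chkP netOf cfg.N 21 (List.reverse (List.getD relsL 9 [])) [] 10 = true := by decide +kernel
theorem rp9p11 : chkP netOf cfg.N 21 (List.reverse (List.getD relsL 9 [])) [] 11 = true := by decide +kernel
theorem rp9p12 : chkP netOf cfg.N 21 (List.reverse (List.getD relsL 9 [])) [] 12 = true := by decide +kernel
theorem rp9p13 : chkP netOf cfg.N 21 (List.reverse (List.getD relsL 9 [])) [] 13 = true := by decide +kernel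
theorem rp9p14 : chkP netOf cfg.N 21 (List.reverse (List.getD relsL 9 [])) [] 14 = true := by decide +kernel
theorem rp9p15 : chkP netOf cfg.N 21 (List.reverse (List.getD relsL 9 [])) [] 15 = true := by decide +kernel
theorem rp9p16 : chkP netOf cfg.N 21 (List.reverse (List.getD relsL 9 [])) [] 16 = true := by decide +kernel
theorem rp9p17 : chkP netOf cfg.N 21 (List.reverse (List.getD relsL 9 [])) [] 17 = true := by decide +kernel
theorem rp9p18 : chkP netOf cfg.N 21 (List.reverse (List.getD relsL 9 [])) [] 18 = true := by decide +kernel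
theorem rp9p19 : chkP netOf cfg.N 21 (List.reverse (List.getD relsL 9 [])) [] 19 = true := by decide +kernel
theorem rp9p20 : chkP netOf cfg.N 21 (List.reverse (List.getD relsL 9 [])) [] 20 = true := by decide +kernel

theorem rp10p0 : chkP netOf cfg.N 21 (List.reverse (List.getD relsL 10 [])) [] 0 = true := by decide +kernel
theorem rp10p1 : chkP netOf cfg.N 21 (List.reverse (List.getD relsL 10 [])) [] 1 = true := by decide +kernel
theorem rp10p2 : chkP netOf cfg.N 21 (List.reverse (List.getD relsL 10 [])) [] 2 = true := by decide +kernel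
theorem rp10p3 : chkP netOf cfg.N 21 (List.reverse (List.getD relsL 10 [])) [] 3 = true := by decide +kernel
theorem rp10p4 : chkP netOf cfg.N 21 (List.reverse (List.getD relsL 10 [])) [] 4 = true := by decide +kernel
theorem rp10p5 : chkP netOf cfg.N 21 (List.reverse (List.getD relsL 10 [])) [] 5 = true := by decide +kernel
theorem rp10p6 : chkP netOf cfg.N 21 (List.reverse (List.getD relsL 10 [])) [] 6 = true := by decide +kernel
theorem rp10p7 : chkP netOf cfg.N 21 (List.reverse (List.getD relsL 10 [])) [] 7 = true := by decide +kernel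
theorem rp10p8 : chkP netOf cfg.N 21 (List.reverse (List.getD relsL 10 [])) [] 8 = true := by decide +kernel
theorem rp10p9 : chkP netOf cfg.N 21 (List.reverse (List.getD relsL 10 [])) [] 9 = true := by decide +kernel
theorem rp10p10 : chkP netOf cfg.N 21 (List.reverse (List.getD relsL 10 [])) [] 10 = true := by decide +kernel
theorem rp10p11 : chkP netOf cfg.N 21 (List.reverse (List.getD relsL 10 [])) [] 11 = true := by decide +kernel
theorem rp10p12 : chkP netOf cfg.N 21 (List.reverse (List.getD relsL 10 [])) [] 12 = true := by decide +kernel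
theorem rp10p13 : chkP netOf cfg.N 21 (List.reverse (List.getD relsL 10 [])) [] 13 = true := by decide +kernel
theorem rp10p14 : chkP netOf cfg.N 21 (List.reverse (List.getD relsL 10 [])) [] 14 = true := by decide +kernel
theorem rp10p15 : chkP netOf cfg.N 21 (List.reverse (List.getD relsL 10 [])) [] 15 = true := by decide +kernel
theorem rp10p16 : chkP netOf cfg.N 21 (List.reverse (List.getD relsL 10 [])) [] 16 = true := by decide +kernel
theorem rp10p17 : chkP netOf cfg.N 21 (List.reverse (List.getD relsL 10 [])) [] 17 = true := by decide +kernel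
theorem rp10p18 : chkP netOf cfg.N 21 (List.reverse (List.getD relsL 10 [])) [] 18 = true := by decide +kernel
theorem rp10p19 : chkP netOf cfg.N 21 (List.reverse (List.getD relsL 10 [])) [] 19 = true := by decide +kernel
theorem rp10p20 : chkP netOf cfg.N 21 (List.reverse (List.getD relsL 10 [])) [] 20 = true := by decide +kernel

theorem rp11p0 : chkP netOf cfg.N 21 (List.reverse (List.getD relsL 11 [])) [] 0 = true := by decide +kernel
theorem rp11p1 : chkP netOf cfg.N 21 (List.reverse (List.getD relsL 11 [])) [] 1 = true := by decide +kernel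
theorem rp11p2 : chkP netOf cfg.N 21 (List.reverse (List.getD relsL 11 [])) [] 2 = true := by decide +kernel
theorem rp11p3 : chkP netOf cfg.N 21 (List.reverse (List.getD relsL 11 [])) [] 3 = true := by decide +kernel
theorem rp11p4 : chkP netOf cfg.N 21 (List.reverse (List.getD relsL 11 [])) [] 4 = true := by decide +kernel
theorem rp11p5 : chkP netOf cfg.N 21 (List.reverse (List.getD relsL 11 [])) [] 5 = true := by decide +kernel
theorem rp11p6 : chkP netOf cfg.N 21 (List.reverse (List.getD relsL 11 [])) [] 6 = true := by decide +kernel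
theorem rp11p7 : chkP netOf cfg.N 21 (List.reverse (List.getD relsL 11 [])) [] 7 = true := by decide +kernel
theorem rp11p8 : chkP netOf cfg.N 21 (List.reverse (List.getD relsL 11 [])) [] 8 = true := by decide +kernel
theorem rp11p9 : chkP netOf cfg.N 21 (List.reverse (List.getD relsL 11 [])) [] 9 = true := by decide +kernel
theorem rp11p10 : chkP netOf cfg.N 21 (List.reverse (List.getD relsL 11 [])) [] 10 = true := by decide +kernel
theorem rp11p11 : chkP netOf cfg.N 21 (List.reverse (List.getD relsL 11 [])) [] 11 = true := by decide +kernel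
theorem rp11p12 : chkP netOf cfg.N 21 (List.reverse (List.getD relsL 11 [])) [] 12 = true := by decide +kernel
theorem rp11p13 : chkP netOf cfg.N 21 (List.reverse (List.getD relsL 11 [])) [] 13 = true := by decide +kernel
theorem rp11p14 : chkP netOf cfg.N 21 (List.reverse (List.getD relsL 11 [])) [] 14 = true := by decide +kernel
theorem rp11p15 : chkP netOf cfg.N 21 (List.reverse (List.getD relsL 11 [])) [] 15 = true := by decide +kernel
theorem rp11p16 : chkP netOf cfg.N 21 (List.reverse (List.getD relsL 11 [])) [] 16 = true := by decide +kernel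
theorem rp11p17 : chkP netOf cfg.N 21 (List.reverse (List.getD relsL 11 [])) [] 17 = true := by decide +kernel
theorem rp11p18 : chkP netOf cfg.N 21 (List.reverse (List.getD relsL 11 [])) [] 18 = true := by decide +kernel
theorem rp11p19 : chkP netOf cfg.N 21 (List.reverse (List.getD relsL 11 [])) [] 19 = true := by decide +kernel
theorem rp11p20 : chkP netOf cfg.N 21 (List.reverse (List.getD relsL 11 [])) [] 20 = true := by decide +kernel

theorem rp12p0 : chkP netOf cfg.N 21 (List.reverse (List.getD relsL 12 [])) [] 0 = true := by decide +kernel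
theorem rp12p1 : chkP netOf cfg.N 21 (List.reverse (List.getD relsL 12 [])) [] 1 = true := by decide +kernel
theorem rp12p2 : chkP netOf cfg.N 21 (List.reverse (List.getD relsL 12 [])) [] 2 = true := by decide +kernel
theorem rp12p3 : chkP netOf cfg.N 21 (List.reverse (List.getD relsL 12 [])) [] 3 = true := by decide +kernel
theorem rp12p4 : chkP netOf cfg.N 21 (List.reverse (List.getD relsL 12 [])) [] 4 = true := by decide +kernel
theorem rp12p5 : chkP netOf cfg.N 21 (List.reverse (List.getD relsL 12 [])) [] 5 = true := by decide +kernel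
theorem rp12p6 : chkP netOf cfg.N 21 (List.reverse (List.getD relsL 12 [])) [] 6 = true := by decide +kernel
theorem rp12p7 : chkP netOf cfg.N 21 (List.reverse (List.getD relsL 12 [])) [] 7 = true := by decide +kernel
theorem rp12p8 : chkP netOf cfg.N 21 (List.reverse (List.getD relsL 12 [])) [] 8 = true := by decide +kernel
theorem rp12p9 : chkP netOf cfg.N 21 (List.reverse (List.getD relsL 12 [])) [] 9 = true := by decide +kernel
theorem rp12p10 : chkP netOf cfg.N 21 (List.reverse (List.getD relsL 12 [])) [] 10 = true := by decide +kernel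
theorem rp12p11 : chkP netOf cfg.N 21 (List.reverse (List.getD relsL 12 [])) [] 11 = true := by decide +kernel
theorem rp12p12 : chkP netOf cfg.N 21 (List.reverse (List.getD relsL 12 [])) [] 12 = true := by decide +kernel
theorem rp12p13 : chkP netOf cfg.N 21 (List.reverse (List.getD relsL 12 [])) [] 13 = true := by decide +kernel
theorem rp12p14 : chkP netOf cfg.N 21 (List.reverse (List.getD relsL 12 [])) [] 14 = true := by decide +kernel
theorem rp12p15 : chkP netOf cfg.N 21 (List.reverse (List.getD relsL 12 [])) [] 15 = true := by decide +kernel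
theorem rp12p16 : chkP netOf cfg.N 21 (List.reverse (List.getD relsL 12 [])) [] 16 = true := by decide +kernel
theorem rp12p17 : chkP netOf cfg.N 21 (List.reverse (List.getD relsL 12 [])) [] 17 = true := by decide +kernel
theorem rp12p18 : chkP netOf cfg.N 21 (List.reverse (List.getD relsL 12 [])) [] 18 = true := by decide +kernel
theorem rp12p19 : chkP netOf cfg.N 21 (List.reverse (List.getD relsL 12 [])) [] 19 = true := by decide +kernel
theorem rp12p20 : chkP netOf cfg.N 21 (List.reverse (List.getD relsL 12 [])) [] 20 = true := by decide +kernel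

theorem rp13p0 : chkP netOf cfg.N 21 (List.reverse (List.getD relsL 13 [])) [] 0 = true := by decide +kernel
theorem rp13p1 : chkP netOf cfg.N 21 (List.reverse (List.getD relsL 13 [])) [] 1 = true := by decide +kernel
theorem rp13p2 : chkP netOf cfg.N 21 (List.reverse (List.getD relsL 13 [])) [] 2 = true := by decide +kernel
theorem rp13p3 : chkP netOf cfg.N 21 (List.reverse (List.getD relsL 13 [])) [] 3 = true := by decide +kernel
theorem rp13p4 : chkP netOf cfg.N 21 (List.reverse (List.getD relsL 13 [])) [] 4 = true := by decide +kernel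
theorem rp13p5 : chkP netOf cfg.N 21 (List.reverse (List.getD relsL 13 [])) [] 5 = true := by decide +kernel
theorem rp13p6 : chkP netOf cfg.N 21 (List.reverse (List.getD relsL 13 [])) [] 6 = true := by decide +kernel
theorem rp13p7 : chkP netOf cfg.N 21 (List.reverse (List.getD relsL 13 [])) [] 7 = true := by decide +kernel
theorem rp13p8 : chkP netOf cfg.N 21 (List.reverse (List.getD relsL 13 [])) [] 8 = true := by decide +kernel
theorem rp13p9 : chkP netOf cfg.N 21 (List.reverse (List.getD relsL 13 [])) [] 9 = true := by decide +kernel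
theorem rp13p10 : chkP netOf cfg.N 21 (List.reverse (List.getD relsL 13 [])) [] 10 = true := by decide +kernel
theorem rp13p11 : chkP netOf cfg.N 21 (List.reverse (List.getD relsL 13 [])) [] 11 = true := by decide +kernel
theorem rp13p12 : chkP netOf cfg.N 21 (List.reverse (List.getD relsL 13 [])) [] 12 = true := by decide +kernel
theorem rp13p13 : chkP netOf cfg.N 21 (List.reverse (List.getD relsL 13 [])) [] 13 = true := by decide +kernel
theorem rp13p14 : chkP netOf cfg.N 21 (List.reverse (List.getD relsL 13 [])) [] 14 = true := by decide +kernel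
theorem rp13p15 : chkP netOf cfg.N 21 (List.reverse (List.getD relsL 13 [])) [] 15 = true := by decide +kernel
theorem rp13p16 : chkP netOf cfg.N 21 (List.reverse (List.getD relsL 13 [])) [] 16 = true := by decide +kernel
theorem rp13p17 : chkP netOf cfg.N 21 (List.reverse (List.getD relsL 13 [])) [] 17 = true := by decide +kernel
theorem rp13p18 : chkP netOf cfg.N 21 (List.reverse (List.getD relsL 13 [])) [] 18 = true := by decide +kernel
theorem rp13p19 : chkP netOf cfg.N 21 (List.reverse (List.getD relsL 13 [])) [] 19 = true := by decide +kernel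
theorem rp13p20 : chkP netOf cfg.N 21 (List.reverse (List.getD relsL 13 [])) [] 20 = true := by decide +kernel

end Cfsg.Agent.Lib.Compute.TC.HNTT
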